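import Mathlib

/-!
# The arithmetic for an involution centralizer `2 × A₄`
-/

set_option autoImplicit false

namespace Cfsg.Agent.H80.CentTwoAlt

/-- The symmetric configuration. -/
theorem first_false {U W R : ℤ} (hU : U ≠ 0) (hW : W ≠ 0) (hR : R ≠ 0) (hU1 : U ≠ 1) (hW1 : W ≠ 1)
    (hR1 : R ≠ -1) (hs : U + W = 1 + R)
    (he : 1 + 1 / (R : ℚ) = 1 / (U : ℚ) + 1 / (W : ℚ)) : False := by
  have hUq : (U : ℚ) ≠ 0 := by exact_mod_cast hU
  have hWq : (W : ℚ) ≠ 0 := by exact_mod_cast hW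
  have hRq : (R : ℚ) ≠ 0 := by exact_mod_cast hR
  field_simp at he
  have h : (R + 1) * (U * W) = R * (W + U) := by
    have : ((R : ℚ) + 1) * (U * W) = R * (W + U) := by linear_combination he
    exact_mod_cast this
  rw [show W + U = R + 1 by omega] at h
  have h2 : (R + 1) * (U * W - R) = 0 := by linear_combination h
  have h3 : U * W = R := by
    rcases mul_eq_zero.mp h2 with h3 | h3 <;> omega
  have h4 : (U - 1) * (W - 1) = 0 := by linear_combination h3 - hs
  rcases mul_eq_zero.mp h4 with h5 | h5 <;> omega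

/-- The second configuration forces the order 2376. -/
theorem second_order {G : ℕ} {P R U W : ℤ} (hU : U % 8 = 2) (hW : W % 8 = 1) (hW1 : W ≠ 1)
    (hR : R % 8 = 2) (h1 : 1 + P + 2 * R = 0) (h2 : P + R + U + W = 0)
    (e0 : (G : ℚ) * (1 + 9 / (P : ℚ) + 8 / (R : ℚ)) = 1152)
    (he : 1 + 4 / (R : ℚ) = 4 / (U : ℚ) + 1 / (W : ℚ)) : G = 2376 := by
  have hWb : W ≤ -7 ∨ 9 ≤ W := by omega
  have hWq : -(1 / 7 : ℚ) ≤ 1 / (W : ℚ) ∧ 1 / (W : ℚ) ≤ 1 / 7 := by
    rcases hWb with h | h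
    · have hq : (W : ℚ) ≤ -7 := by exact_mod_cast h
      constructor
      · rw [le_div_iff_of_neg (by linarith)]; linarith
      · rw [div_le_iff_of_neg (by linarith)]; linarith
    · have hq : (9 : ℚ) ≤ W := by exact_mod_cast h
      constructor
      · rw [le_div_iff₀ (by linarith)]; linarith
      · rw [div_le_iff₀ (by linarith)]; linarith
  -- the inverse of `U` is bounded below
  have bound : ∀ c : ℚ, 0 < c → c ≤ 4 / (U : ℚ) → (U : ℚ) ≤ 4 / c ∧ 0 < U := by
    intro c hc hcU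
    have hUne : (U : ℚ) ≠ 0 := by exact_mod_cast (show U ≠ 0 by omega)
    have hpos : (0 : ℚ) < U := by
      by_contra h
      have : 4 / (U : ℚ) ≤ 0 := div_nonpos_of_nonneg_of_nonpos (by norm_num) (le_of_not_gt h)
      linarith
    refine ⟨?_, by exact_mod_cast hpos⟩
    rw [le_div_iff₀ hc]
    rw [le_div_iff₀ hpos] at hcU
    linarith
  have hW' : W = 1 + R - U := by omega
  rcases (show R ≤ -14 ∨ 10 ≤ R ∨ R = 2 ∨ R = -6 by omega) with hRb | hRb | rfl | rfl
  rotate_left 2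
  · exfalso
    norm_num at he hWq
    obtain ⟨h3, h4⟩ := bound 2 (by norm_num) (by linarith [hWq.2])
    have : U ≤ 2 := by exact_mod_cast (h3.trans (by norm_num : (4 : ℚ) / 2 ≤ 2))
    obtain rfl : U = 2 := by omega
    norm_num at he
    linarith [hWq.2]
  · obtain rfl : P = 11 := by omega
    norm_num at e0
    exact_mod_cast (show (G : ℚ) = 2376 by linarith)
  all_goals
    exfalso
    have hR4 : -(2 / 5 : ℚ) ≤ 4 / (R : ℚ) := by
      first
        | (have hq : (10 : ℚ) ≤ R := by exact_mod_cast hRb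
           have : 0 ≤ 4 / (R : ℚ) := by positivity
           linarith)
        | (have hq : (R : ℚ) ≤ -14 := by exact_mod_cast hRb
           rw [le_div_iff_of_neg (by linarith)]; linarith)
    obtain ⟨h3, h4⟩ := bound (2 / 5) (by norm_num) (by linarith [hWq.2])
    have : U ≤ 10 := by exact_mod_cast (h3.trans (by norm_num : (4 : ℚ) / (2 / 5) ≤ 10))
    rcases (show U = 2 ∨ U = 10 by omega) with rfl | rfl
    · subst hW'
      have hRq : (R : ℚ) ≠ 0 := by exact_mod_cast (show R ≠ 0 by omega)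
      have hR1q : ((1 + R - 2 : ℤ) : ℚ) ≠ 0 := by exact_mod_cast (show (1 + R - 2 : ℤ) ≠ 0 by omega)
      push_cast at he hR1q
      field_simp at he
      have h5 : (R - 2) * (R - 2) = 0 := by
        have : ((R : ℚ) - 2) * (R - 2) = 0 := by linear_combination (-1 / 2 : ℚ) * he
        exact_mod_cast this
      have := mul_self_eq_zero.mp h5
      omega
    · norm_num at he hWq
      linarith [hWq.2]

variable {ι : Type*} [Fintype ι] [DecidableEq ι]

/-- The data of the three induced generalized characters. -/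
structure Coeffs (o : ι) (σ : ι → ι) (a b c d : ι → ℤ) : Prop where
  inv : ∀ i, σ (σ i) = i
  sa : ∀ i, a (σ i) = a i
  sb : ∀ i, b (σ i) = c i
  sd : ∀ i, d (σ i) = d i
  dpos : ∀ i, 0 < d i
  done : d o = 1
  lin : ∀ i, i ≠ o → d i ≠ 1
  ao : a o = 1
  bo : b o = 0
  aa : ∑ i, a i * a i = 4
  bb : ∑ i, b i * b i = 4
  ab : ∑ i, a i * b i = 2
  bc : ∑ i, b i * c i = 2
  da : ∑ i, a i * d i = 0
  db : ∑ i, b i * d i = 0
  mod8 : ∀ i, (d i - (a i + b i + c i)) % 8 = 0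

/-- A vector of norm four orthogonal to a positive vector has four entries `±1`. -/
theorem unit_entries {f d : ι → ℤ} (hf : ∑ i, f i * f i = 4) (hd : ∀ i, 0 < d i)
    (h0 : ∑ i, f i * d i = 0) (i : ι) : f i = 0 ∨ f i = 1 ∨ f i = -1 := by
  have hle : f i * f i ≤ 4 := by
    rw [← hf]
    exact Finset.single_le_sum (fun j _ => mul_self_nonneg (f j)) (Finset.mem_univ i)
  by_contra h
  have h4 : f i * f i = 4 := by
    rcases (show f i ≤ -2 ∨ 2 ≤ f i by omega) with h' | h' <;> nlinarith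
  have hz : ∀ j, j ≠ i → f j = 0 := by
    intro j hj
    have h2 : f i * f i + f j * f j ≤ 4 := by
      rw [← hf, ← Finset.sum_pair (f := fun k => f k * f k) (Ne.symm hj)]
      exact Finset.sum_le_sum_of_subset_of_nonneg (Finset.subset_univ _) fun k _ _ => mul_self_nonneg _
    have : f j * f j ≤ 0 := by linarith
    exact mul_self_eq_zero.mp (le_antisymm this (mul_self_nonneg _))
  rw [Finset.sum_eq_single i (fun j _ hj => by rw [hz j hj, zero_mul])
    (fun h => absurd (Finset.mem_univ i) h)] at h0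
  rcases mul_eq_zero.mp h0 with h' | h'
  · rw [h'] at h4; norm_num at h4
  · have := hd i; omega

theorem exists_quad {f : ι → ℤ} (hf : ∑ i, f i * f i = 4)
    (hu : ∀ i, f i = 0 ∨ f i = 1 ∨ f i = -1) :
    (Finset.univ.filter fun i => f i ≠ 0).card = 4 := by
  have h : ∀ i, f i * f i = if f i ≠ 0 then 1 else 0 := fun i => by
    rcases hu i with e | e | e <;> simp [e]
  simp only [h, Finset.sum_boole] at hf
  exact_mod_cast hf

theorem sum_four {M : Type*} [AddCommMonoid M] (g : ι → M) {i j k l : ι}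
    (h : ∀ x, x ≠ i → x ≠ j → x ≠ k → x ≠ l → g x = 0)
    (hij : i ≠ j) (hik : i ≠ k) (hil : i ≠ l) (hjk : j ≠ k) (hjl : j ≠ l) (hkl : k ≠ l) :
    ∑ x, g x = g i + g j + g k + g l := by
  rw [← Finset.sum_subset (Finset.subset_univ ({i, j, k, l} : Finset ι))]
  · simp [hij, hik, hil, hjk, hjl, hkl, add_assoc]
  · intro x _ hx
    simp only [Finset.mem_insert, Finset.mem_singleton, not_or] at hx
    exact h x hx.1 hx.2.1 hx.2.2.1 hx.2.2.2

variable {o : ι} {σ : ι → ι} {a b c d : ι → ℤ}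

theorem Coeffs.sc (H : Coeffs o σ a b c d) (i : ι) : c (σ i) = b i := by rw [← H.sb, H.inv]

theorem Coeffs.fix (H : Coeffs o σ a b c d) : σ o = o := by
  by_contra h
  exact H.lin _ h (by rw [H.sd, H.done])

/-- The signed degree. -/
theorem signed_term {s dd v : ℤ} (hs : s = 1 ∨ s = -1) :
    (s : ℚ) * (v : ℚ) ^ 2 / (dd : ℚ) = (v : ℚ) ^ 2 / ((s * dd : ℤ) : ℚ) := by
  rcases hs with rfl | rfl <;> push_cast <;> ring

/-- The three nonzero entries of `a` away from `o`, with their `b`-values. -/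
structure Config (o : ι) (a b : ι → ℤ) (p q r : ι) : Prop where
  pq : p ≠ q
  pr : p ≠ r
  qr : q ≠ r
  ap : p ≠ o ∧ a p ≠ 0
  aq : q ≠ o ∧ a q ≠ 0
  ar : r ≠ o ∧ a r ≠ 0
  br : b r = 0
  bp : b p = a p
  bq : b q = a q
  supp : ∀ x, x ≠ o → a x ≠ 0 → x = p ∨ x = q ∨ x = r

variable {p q r : ι}

theorem Config.symm (C : Config o a b p q r) : Config o a b q p r :=
  ⟨C.pq.symm, C.qr, C.pr, C.aq, C.ap, C.ar, C.br, C.bq, C.bp, fun x h1 h2 => by
    rcases C.supp x h1 h2 with h | h | h <;> simp [h]⟩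

theorem Coeffs.exists_config (H : Coeffs o σ a b c d) : ∃ p q r, Config o a b p q r := by
  have ua := unit_entries H.aa H.dpos H.da
  have ub := unit_entries H.bb H.dpos H.db
  have hA := exists_quad H.aa ua
  have hoA : o ∈ Finset.univ.filter fun i => a i ≠ 0 := by simp [H.ao]
  obtain ⟨p₀, q₀, r₀, hpq₀, hpr₀, hqr₀, hA3⟩ := Finset.card_eq_three.mp
    (show ((Finset.univ.filter fun i => a i ≠ 0).erase o).card = 3 by
      rw [Finset.card_erase_of_mem hoA, hA])
  have key : ∀ x, x ∈ ({p₀, q₀, r₀} : Finset ι) ↔ (x ≠ o ∧ a x ≠ 0) := fun x => by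
    rw [← hA3]; simp
  have hp := (key p₀).mp (by simp)
  have hq := (key q₀).mp (by simp)
  have hr := (key r₀).mp (by simp)
  have hs := H.ab
  rw [sum_four (fun i => a i * b i) (i := o) (j := p₀) (k := q₀) (l := r₀) (fun x h1 h2 h3 h4 => by
    have : a x = 0 := by
      by_contra h
      have := (key x).mpr ⟨h1, h⟩
      simp [h2, h3, h4] at this
    simp [this]) hp.1.symm hq.1.symm hr.1.symm hpq₀ hpr₀ hqr₀, H.ao, H.bo] at hs
  have hall : ∀ x, x ≠ o → a x ≠ 0 → x = p₀ ∨ x = q₀ ∨ x = r₀ := fun x h1 h2 => by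
    simpa using (key x).mpr ⟨h1, h2⟩
  have h3 : (b r₀ = 0 ∧ b p₀ = a p₀ ∧ b q₀ = a q₀) ∨ (b q₀ = 0 ∧ b p₀ = a p₀ ∧ b r₀ = a r₀) ∨
      (b p₀ = 0 ∧ b q₀ = a q₀ ∧ b r₀ = a r₀) := by
    rcases ua p₀ with e | e | e
    · exact absurd e hp.2
    all_goals rcases ua q₀ with e' | e' | e'
    all_goals first | exact absurd e' hq.2 | skip
    all_goals rcases ua r₀ with e'' | e'' | e''
    all_goals first | exact absurd e'' hr.2 | skip
    all_goals
      rw [e, e', e''] at hs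
      rw [e, e', e'']
      have := ub p₀; have := ub q₀; have := ub r₀
      omega
  rcases h3 with ⟨h1, h2, h3⟩ | ⟨h1, h2, h3⟩ | ⟨h1, h2, h3⟩
  · exact ⟨p₀, q₀, r₀, hpq₀, hpr₀, hqr₀, hp, hq, hr, h1, h2, h3, hall⟩
  · exact ⟨p₀, r₀, q₀, hpr₀, hpq₀, hqr₀.symm, hp, hr, hq, h1, h2, h3,
      fun x u w => by rcases hall x u w with h | h | h <;> simp [h]⟩
  · exact ⟨q₀, r₀, p₀, hqr₀, hpq₀.symm, hpr₀.symm, hq, hr, hp, h1, h2, h3,
      fun x u w => by rcases hall x u w with h | h | h <;> simp [h]⟩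

theorem Config.sum_a (C : Config o a b p q r) (H : Coeffs o σ a b c d) (F : ι → ℚ) :
    ∑ i, (a i : ℚ) * F i = F o + a p * F p + a q * F q + a r * F r := by
  rw [sum_four _ (i := o) (j := p) (k := q) (l := r) (fun x h1 h2 h3 h4 => by
    have : a x = 0 := by
      by_contra h
      rcases C.supp x h1 h with e | e | e
      exacts [h2 e, h3 e, h4 e]
    simp [this]) C.ap.1.symm C.aq.1.symm C.ar.1.symm C.pq C.pr C.qr, H.ao]
  simp

/-- The two further entries of `b`, and the resulting equations. -/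
theorem Config.exists_outer (C : Config o a b p q r) (H : Coeffs o σ a b c d) :
    ∃ u w : ι, u ≠ w ∧ u ≠ o ∧ w ≠ o ∧ b u ≠ 0 ∧ b w ≠ 0 ∧ a u = 0 ∧ a w = 0 ∧
      (∀ x, b x ≠ 0 → x = p ∨ x = q ∨ x = u ∨ x = w) ∧
      (∀ F : ι → ℚ, ∑ i, (b i : ℚ) * F i = a p * F p + a q * F q + b u * F u + b w * F w) ∧
      b p * c p + b q * c q + (b u * c u + b w * c w) = 2 := by
  have ub := unit_entries H.bb H.dpos H.db
  have hB := exists_quad H.bb ub
  have hbp0 : b p ≠ 0 := C.bp ▸ C.ap.2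
  have hbq0 : b q ≠ 0 := C.bq ▸ C.aq.2
  obtain ⟨u, w, huw, hB2⟩ := Finset.card_eq_two.mp
    (show (((Finset.univ.filter fun i => b i ≠ 0).erase p).erase q).card = 2 by
      rw [Finset.card_erase_of_mem (by simp [hbq0, C.pq.symm]),
        Finset.card_erase_of_mem (by simp [hbp0]), hB])
  have keyb : ∀ x, x ∈ ({u, w} : Finset ι) ↔ (x ≠ q ∧ x ≠ p ∧ b x ≠ 0) := fun x => by
    rw [← hB2]; simp
  have outer : ∀ x, x ≠ q → x ≠ p → b x ≠ 0 → a x = 0 := by
    intro x h1 h2 h3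
    by_contra h
    rcases C.supp x (fun e => h3 (e ▸ H.bo)) h with e | e | e
    exacts [h2 e, h1 e, h3 (e ▸ C.br)]
  have hu := (keyb u).mp (by simp)
  have hw := (keyb w).mp (by simp)
  have all : ∀ x, x ≠ p → x ≠ q → x ≠ u → x ≠ w → b x = 0 := fun x h1 h2 h3 h4 => by
    by_contra h
    have := (keyb x).mpr ⟨h2, h1, h⟩
    simp [h3, h4] at this
  refine ⟨u, w, huw, fun e => hu.2.2 (e ▸ H.bo), fun e => hw.2.2 (e ▸ H.bo), hu.2.2, hw.2.2,
    outer u hu.1 hu.2.1 hu.2.2, outer w hw.1 hw.2.1 hw.2.2, fun x hx => ?_, fun F => ?_, ?_⟩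
  · by_contra h
    simp only [not_or] at h
    exact hx (all x h.1 h.2.1 h.2.2.1 h.2.2.2)
  · rw [sum_four _ (i := p) (j := q) (k := u) (l := w)
      (fun x h1 h2 h3 h4 => by simp [all x h1 h2 h3 h4])
      C.pq hu.2.1.symm hw.2.1.symm hu.1.symm hw.1.symm huw, C.bp, C.bq]
  · have h := H.bc
    rw [sum_four _ (i := p) (j := q) (k := u) (l := w)
      (fun x h1 h2 h3 h4 => by simp [all x h1 h2 h3 h4])
      C.pq hu.2.1.symm hw.2.1.symm hu.1.symm hw.1.symm huw] at h
    linarith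

theorem Coeffs.unit_a (H : Coeffs o σ a b c d) {i : ι} (h : a i ≠ 0) : a i = 1 ∨ a i = -1 :=
  (unit_entries H.aa H.dpos H.da i).resolve_left h

theorem Coeffs.unit_b (H : Coeffs o σ a b c d) {i : ι} (h : b i ≠ 0) : b i = 1 ∨ b i = -1 :=
  (unit_entries H.bb H.dpos H.db i).resolve_left h

theorem term_eq {s : ℤ} {i : ι} {v : ℤ} (hs : s = 1 ∨ s = -1) (hv : a i + b i + c i = v) :
    (s : ℚ) * (((a i + b i + c i : ℤ) : ℚ) ^ 2 / (d i : ℚ)) =
      (v : ℚ) ^ 2 / ((s * d i : ℤ) : ℚ) := by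
  rw [hv, ← mul_div_assoc, signed_term hs]

theorem Coeffs.mod_eq (H : Coeffs o σ a b c d) {s : ℤ} {i : ι} {k : ℤ} (hs : s = 1 ∨ s = -1)
    (hv : a i + b i + c i = k * s) : (s * d i - k) % 8 = 0 := by
  have := H.mod8 i
  rw [hv] at this
  rcases hs with rfl | rfl <;> omega

theorem Coeffs.ne_one (H : Coeffs o σ a b c d) {s : ℤ} {i : ι} (hs : s = 1 ∨ s = -1)
    (hi : i ≠ o) : s * d i ≠ 1 ∧ s * d i ≠ -1 ∧ s * d i ≠ 0 := by
  have := H.lin i hi
  have := H.dpos i
  rcases hs with rfl | rfl <;> omega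

theorem Coeffs.vo (H : Coeffs o σ a b c d) : a o + b o + c o = 1 := by
  rw [← H.sb o, H.fix, H.bo, H.ao]; norm_num

theorem Coeffs.sigma_inj (H : Coeffs o σ a b c d) : Function.Injective σ := fun x y h => by
  rw [← H.inv x, h, H.inv]

theorem Coeffs.sigma_mem (H : Coeffs o σ a b c d) (C : Config o a b p q r) {x : ι} (h1 : x ≠ o)
    (h2 : a x ≠ 0) : σ x = p ∨ σ x = q ∨ σ x = r :=
  C.supp _ (fun e => h1 (H.sigma_inj (e.trans H.fix.symm))) (by rwa [H.sa])

theorem sq_unit {x : ℤ} (hx : x = 1 ∨ x = -1) : (x : ℚ) ^ 2 = 1 := by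
  rcases hx with rfl | rfl <;> norm_num

theorem cast_dsum {f d : ι → ℤ} (h : ∑ i, f i * d i = 0) :
    ∑ i, (f i : ℚ) * (d i : ℚ) = 0 := by
  exact_mod_cast h

/-- The configuration moving the unshared entry. -/
theorem Config.order_moved (C : Config o a b p q r) (H : Coeffs o σ a b c d) (hσr : σ r = p)
    {G : ℕ}
    (e0 : (G : ℚ) * ∑ i, (a i : ℚ) * ((a i + b i + c i : ℤ) : ℚ) ^ 2 / (d i : ℚ) = 1152)
    (e1 : (G : ℚ) * ∑ i, (b i : ℚ) * ((a i + b i + c i : ℤ) : ℚ) ^ 2 / (d i : ℚ) = 1152) :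
    G = 2376 := by
  have hG : (G : ℚ) ≠ 0 := fun h => by rw [h, zero_mul] at e0; norm_num at e0
  obtain ⟨u₀, w₀, huw₀, huo₀, hwo₀, hbu₀, hbw₀, hau₀, haw₀, -, sumB₀, bc₀⟩ := C.exists_outer H
  have ap := H.unit_a C.ap.2
  have aq := H.unit_a C.aq.2
  have hσp : σ p = r := by rw [← hσr, H.inv]
  have hσq : σ q = q := by
    rcases H.sigma_mem C C.aq.1 C.aq.2 with e | e | e
    · exact absurd (H.sigma_inj (e.trans hσr.symm)) C.qr
    · exact e
    · exact absurd (H.sigma_inj (e.trans hσp.symm)) C.pq.symm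
  have hcp : c p = 0 := by rw [← H.sb, hσp, C.br]
  have hcq : c q = a q := by rw [← H.sb, hσq, C.bq]
  have har' : a r = a p := by rw [← H.sa r, hσr]
  have hcr : c r = a p := by rw [← H.sb, hσr, C.bp]
  obtain ⟨u, w, huo, hwo, hbu, hbw, hau, haw, sumB, hu1, hw0⟩ : ∃ u w, u ≠ o ∧ w ≠ o ∧
      b u ≠ 0 ∧ b w ≠ 0 ∧ a u = 0 ∧ a w = 0 ∧
      (∀ F : ι → ℚ, ∑ i, (b i : ℚ) * F i = a p * F p + a q * F q + b u * F u + b w * F w) ∧
      b u * c u = 1 ∧ b w * c w = 0 := by
    have hq1 : a q * a q = 1 := by rcases aq with e | e <;> rw [e] <;> norm_num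
    rw [hcp, hcq, C.bq, mul_zero, hq1] at bc₀
    have hb : ∀ x, b x * c x = 0 ∨ b x * c x = 1 ∨ b x * c x = -1 := by
      intro x
      have hc := unit_entries H.bb H.dpos H.db (σ x)
      rw [H.sb] at hc
      rcases unit_entries H.bb H.dpos H.db x with e | e | e <;>
        rcases hc with e' | e' | e' <;> simp [e, e']
    have := hb u₀; have := hb w₀
    rcases (show (b u₀ * c u₀ = 1 ∧ b w₀ * c w₀ = 0) ∨ (b w₀ * c w₀ = 1 ∧ b u₀ * c u₀ = 0) by omega)
      with ⟨h1, h2⟩ | ⟨h1, h2⟩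
    · exact ⟨u₀, w₀, huo₀, hwo₀, hbu₀, hbw₀, hau₀, haw₀, sumB₀, h1, h2⟩
    · exact ⟨w₀, u₀, hwo₀, huo₀, hbw₀, hbu₀, haw₀, hau₀, fun F => by rw [sumB₀]; ring, h1, h2⟩
  have bu := H.unit_b hbu
  have bw := H.unit_b hbw
  have hcu : c u = b u := by rcases bu with e | e <;> rw [e] at hu1 ⊢ <;> omega
  have hcw : c w = 0 := (mul_eq_zero.mp hw0).resolve_left hbw
  have vp : a p + b p + c p = 2 * a p := by rw [C.bp, hcp]; ring
  have vq : a q + b q + c q = 3 * a q := by rw [C.bq, hcq]; ring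
  have vr : a r + b r + c r = 2 * a r := by rw [C.br, hcr, har']; ring
  have vu : a u + b u + c u = 2 * b u := by rw [hau, hcu]; ring
  have vw : a w + b w + c w = 1 * b w := by rw [haw, hcw]; ring
  have hdr : d r = d p := by rw [← H.sd r, hσr]
  have d1 := C.sum_a H fun i => (d i : ℚ)
  rw [cast_dsum H.da, H.done, har', hdr] at d1
  have d2 := sumB fun i => (d i : ℚ)
  rw [cast_dsum H.db] at d2
  simp only [mul_div_assoc] at e0 e1
  rw [C.sum_a H, term_eq ap vp, term_eq aq vq, term_eq (H.unit_a C.ar.2) vr, H.vo, H.done,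
    har', hdr] at e0
  rw [sumB, term_eq ap vp, term_eq aq vq, term_eq bu vu, term_eq bw vw] at e1
  refine second_order (P := a q * d q) (R := a p * d p) (U := b u * d u) (W := b w * d w)
    ?_ ?_ (H.ne_one bw hwo).1 ?_ ?_ ?_ ?_ ?_
  · have := H.mod_eq bu vu; omega
  · have := H.mod_eq bw vw; omega
  · have := H.mod_eq ap vp; omega
  · have : (((1 + a q * d q + 2 * (a p * d p) : ℤ)) : ℚ) = 0 := by
      push_cast at d1 ⊢; linarith
    exact_mod_cast this
  · have : (((a q * d q + a p * d p + b u * d u + b w * d w : ℤ)) : ℚ) = 0 := by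
      push_cast at d2 ⊢; linarith
    exact_mod_cast this
  · push_cast at e0 ⊢
    simp only [mul_pow, sq_unit ap, sq_unit aq] at e0
    linear_combination e0
  · push_cast at e0 e1 ⊢
    simp only [mul_pow, sq_unit ap, sq_unit aq, sq_unit bu, sq_unit bw] at e0 e1
    apply mul_left_cancel₀ hG
    linear_combination e0 - e1

/-- The configuration fixing the unshared entry is impossible. -/
theorem Config.false_fixed (C : Config o a b p q r) (H : Coeffs o σ a b c d) (hσr : σ r = r)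
    {G : ℕ}
    (e0 : (G : ℚ) * ∑ i, (a i : ℚ) * ((a i + b i + c i : ℤ) : ℚ) ^ 2 / (d i : ℚ) = 1152)
    (e1 : (G : ℚ) * ∑ i, (b i : ℚ) * ((a i + b i + c i : ℤ) : ℚ) ^ 2 / (d i : ℚ) = 1152) :
    False := by
  have hG : (G : ℚ) ≠ 0 := fun h => by rw [h, zero_mul] at e0; norm_num at e0
  obtain ⟨u, w, huw, huo, hwo, hbu, hbw, hau, haw, hbsupp, sumB, bc⟩ := C.exists_outer H
  have ap := H.unit_a C.ap.2
  have aq := H.unit_a C.aq.2
  have ar := H.unit_a C.ar.2
  have bu := H.unit_b hbu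
  have bw := H.unit_b hbw
  have hpq2 : (σ p = p ∧ σ q = q) ∨ (σ p = q ∧ σ q = p) := by
    rcases H.sigma_mem C C.ap.1 C.ap.2 with e | e | e
    · rcases H.sigma_mem C C.aq.1 C.aq.2 with e' | e' | e'
      · exact absurd (H.sigma_inj (e.trans e'.symm)) C.pq
      · exact .inl ⟨e, e'⟩
      · exact absurd (H.sigma_inj (e'.trans hσr.symm)) C.qr
    · exact .inr ⟨e, by rw [← e, H.inv]⟩
    · exact absurd (H.sigma_inj (e.trans hσr.symm)) C.pr
  have hcpq : c p = a p ∧ c q = a q := by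
    rcases hpq2 with ⟨e, e'⟩ | ⟨e, e'⟩
    · exact ⟨by rw [← H.sb, e, C.bp], by rw [← H.sb, e', C.bq]⟩
    · refine ⟨?_, ?_⟩
      · rw [← H.sb, e, C.bq, ← H.sa p, e]
      · rw [← H.sb, e', C.bp, ← H.sa q, e']
  have hcr : c r = 0 := by rw [← H.sb, hσr, C.br]
  have h0 : b u * c u + b w * c w = 0 := by
    rw [hcpq.1, hcpq.2, C.bp, C.bq] at bc
    rcases ap with e | e <;> rcases aq with e' | e' <;> rw [e, e'] at bc <;> linarith
  have hcu : c u = 0 ∧ c w = 0 := by
    by_cases hu : c u = 0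
    · rw [hu, mul_zero, zero_add] at h0
      exact ⟨hu, (mul_eq_zero.mp h0).resolve_left hbw⟩
    exfalso
    have hw : c w ≠ 0 := fun h => hu <| by
      rw [h, mul_zero, add_zero] at h0
      exact (mul_eq_zero.mp h0).resolve_left hbu
    have img : ∀ x, x = u ∨ x = w → c x ≠ 0 → σ x = u ∨ σ x = w := by
      intro x hx hcx
      rw [← H.sb] at hcx
      have hxp : x ≠ p ∧ x ≠ q := by
        rcases hx with rfl | rfl
        · exact ⟨fun e => C.ap.2 (e ▸ hau), fun e => C.aq.2 (e ▸ hau)⟩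
        · exact ⟨fun e => C.ap.2 (e ▸ haw), fun e => C.aq.2 (e ▸ haw)⟩
      rcases hbsupp _ hcx with e | e | e | e
      · rcases hpq2 with ⟨h, -⟩ | ⟨-, h⟩
        · exact absurd (H.sigma_inj (e.trans h.symm)) hxp.1
        · exact absurd (H.sigma_inj (e.trans h.symm)) hxp.2
      · rcases hpq2 with ⟨-, h⟩ | ⟨h, -⟩
        · exact absurd (H.sigma_inj (e.trans h.symm)) hxp.2
        · exact absurd (H.sigma_inj (e.trans h.symm)) hxp.1
      · exact .inl e
      · exact .inr e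
    rw [← H.sb u, ← H.sb w] at h0
    rcases img u (.inl rfl) hu with e | e
    · have e' : σ w = w := (img w (.inr rfl) hw).resolve_left
        fun h => huw (H.sigma_inj (e.trans h.symm))
      rw [e, e'] at h0
      rcases bu with h | h <;> rcases bw with h' | h' <;> rw [h, h'] at h0 <;> omega
    · have e' : σ w = u := by rw [← e, H.inv]
      rw [e, e'] at h0
      rcases bu with h | h <;> rcases bw with h' | h' <;> rw [h, h'] at h0 <;> omega
  have vp : a p + b p + c p = 3 * a p := by rw [C.bp, hcpq.1]; ring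
  have vq : a q + b q + c q = 3 * a q := by rw [C.bq, hcpq.2]; ring
  have vr : a r + b r + c r = 1 * a r := by rw [C.br, hcr]; ring
  have vu : a u + b u + c u = 1 * b u := by rw [hau, hcu.1]; ring
  have vw : a w + b w + c w = 1 * b w := by rw [haw, hcu.2]; ring
  have d1 := C.sum_a H fun i => (d i : ℚ)
  rw [cast_dsum H.da, H.done] at d1
  have d2 := sumB fun i => (d i : ℚ)
  rw [cast_dsum H.db] at d2
  simp only [mul_div_assoc] at e0 e1
  rw [C.sum_a H, term_eq ap vp, term_eq aq vq, term_eq ar vr, H.vo, H.done] at e0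
  rw [sumB, term_eq ap vp, term_eq aq vq, term_eq bu vu, term_eq bw vw] at e1
  refine first_false (U := b u * d u) (W := b w * d w) (R := a r * d r) (H.ne_one bu huo).2.2
    (H.ne_one bw hwo).2.2 (H.ne_one ar C.ar.1).2.2 (H.ne_one bu huo).1 (H.ne_one bw hwo).1
    (H.ne_one ar C.ar.1).2.1 ?_ ?_
  · have : ((b u * d u + b w * d w : ℤ) : ℚ) = ((1 + a r * d r : ℤ) : ℚ) := by
      push_cast at d1 d2 ⊢; linarith
    exact_mod_cast this
  · push_cast at e0 e1 ⊢
    simp only [mul_pow, sq_unit ap, sq_unit aq, sq_unit ar, sq_unit bu, sq_unit bw] at e0 e1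
    apply mul_left_cancel₀ hG
    linear_combination e0 - e1

theorem Coeffs.order (H : Coeffs o σ a b c d) {G : ℕ}
    (e0 : (G : ℚ) * ∑ i, (a i : ℚ) * ((a i + b i + c i : ℤ) : ℚ) ^ 2 / (d i : ℚ) = 1152)
    (e1 : (G : ℚ) * ∑ i, (b i : ℚ) * ((a i + b i + c i : ℤ) : ℚ) ^ 2 / (d i : ℚ) = 1152) :
    G = 2376 := by
  obtain ⟨p, q, r, C⟩ := H.exists_config
  rcases H.sigma_mem C C.ar.1 C.ar.2 with h | h | h
  · exact C.order_moved H h e0 e1
  · exact C.symm.order_moved H h e0 e1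
  · exact (C.false_fixed H h e0 e1).elim

end Cfsg.Agent.H80.CentTwoAlt
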