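import Cfsg.Agent.H25.IndRep
import Cfsg.Agent.H26.CharPerm
import Cfsg.Agent.H57.VChar

/-!
# Generalized characters of `C2 × A4` supported on the elements powering to the central involution
-/

set_option autoImplicit false
set_option synthInstance.maxSize 4096
set_option maxHeartbeats 1000000
set_option maxRecDepth 4000

namespace Cfsg.Agent.H80.CentTwoAlt

open scoped ComplexConjugate

/-- The alternating group of degree four. -/
abbrev A : Type := alternatingGroup (Fin 4)

/-- The group. -/
abbrev M : Type := Multiplicative (ZMod 2) × A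

/-- The central involution. -/
def τ : M := (Multiplicative.ofAdd 1, 1)

/-- An element of order three. -/
def rA : A := ⟨Equiv.swap 0 1 * Equiv.swap 1 2, by rw [Equiv.Perm.mem_alternatingGroup]; decide⟩

/-- An involution. -/
def vA : A := ⟨Equiv.swap 0 1 * Equiv.swap 2 3, by rw [Equiv.Perm.mem_alternatingGroup]; decide⟩

/-- The action on the three pairings. -/
def idx (p : A) : ℕ :=
  (if p.1 0 = 0 then (p.1 1).val else if p.1 1 = 0 then (p.1 0).val
    else 6 - (p.1 0).val - (p.1 1).val) - 1

/-- The class of an element. -/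
def cls (p : A) : Fin 4 :=
  if idx p = 1 then 2 else if idx p = 2 then 3 else if p = 1 then 0 else 1

theorem idx_mul : ∀ g h : A, idx (g * h) = (idx g + idx h) % 3 := by decide +kernel

theorem idx_one : idx 1 = 0 := by decide +kernel

theorem idx_lt : ∀ p : A, idx p < 3 := by decide +kernel

theorem cls_eq_zero : ∀ p : A, cls p = 0 ↔ p = 1 := by decide +kernel

theorem cls_conj : ∀ p x : A, cls (x * p * x⁻¹) = cls p := by decide +kernel

theorem class_card : ∀ c : Fin 4,
    (Finset.univ.filter fun p : A => cls p = c).card = ![1, 3, 4, 4] c := by decide +kernel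

theorem cls_inv : ∀ p : A, cls p⁻¹ = ![0, 1, 3, 2] (cls p) := by decide +kernel

theorem card_M : Fintype.card M = 24 := by decide +kernel

theorem fst_inv : ∀ a : Multiplicative (ZMod 2), a⁻¹ = a := by decide +kernel

theorem special_iff : ∀ m : M, m ^ 3 = τ ↔ (m.1 ≠ 1 ∧ cls m.2 ≠ 1) := by decide +kernel

theorem tau_ne : τ ≠ 1 ∧ τ * τ = 1 := by decide +kernel

theorem ofAdd_ne : (Multiplicative.ofAdd (1 : ZMod 2)) ≠ 1 := by decide

theorem noncomm : ((1, vA) : M) * (1, rA) ≠ (1, rA) * (1, vA) := by decide +kernel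

/-- The number of factorisations into two involutions, on the special elements. -/
def pairTable : Fin 4 → ℕ := ![6, 0, 0, 0]

theorem pair_count : ∀ g : M, g.1 ≠ 1 → cls g.2 ≠ 1 →
    (Finset.univ.filter fun x : M => (x * x = 1 ∧ x ≠ 1) ∧
      ((x * g) * (x * g) = 1 ∧ x * g ≠ 1)).card = pairTable (cls g.2) := by decide +kernel

/-- The elements of order at most two. -/
def twoPart : Subgroup M where
  carrier := {m | m * m = 1}
  one_mem' := by decide +kernel
  mul_mem' {a b} ha hb := (by decide +kernel :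
    ∀ a b : M, a * a = 1 → b * b = 1 → a * b * (a * b) = 1) a b ha hb
  inv_mem' {a} ha := (by decide +kernel : ∀ a : M, a * a = 1 → a⁻¹ * a⁻¹ = 1) a ha

instance decTwoPart (g : M) : Decidable (g ∈ twoPart) :=
  inferInstanceAs (Decidable (g * g = 1))

theorem card_twoPart : Nat.card twoPart = 8 := by
  rw [Nat.card_eq_fintype_card]; decide +kernel

/-- The number of fixed points. -/
def fixCount (p : A) : ℕ := (Finset.univ.filter fun i : Fin 4 => p.1 i = i).card

theorem fixCount_table : ∀ p : A, fixCount p = ![4, 0, 1, 1] (cls p) := by decide +kernel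

theorem idx_table : ∀ p : A, idx p = ![0, 0, 1, 2] (cls p) := by decide +kernel

/-- A function of the class, living on the nontrivial coset. -/
noncomputable def ofTable (T : Fin 4 → ℂ) (m : M) : ℂ := if m.1 = 1 then 0 else T (cls m.2)

theorem isClassFunction_ofTable (T : Fin 4 → ℂ) : Cfsg.IsClassFunction M (ofTable T) := by
  intro g x
  simp only [ofTable, Prod.fst_mul, Prod.snd_mul, Prod.fst_inv, Prod.snd_inv, cls_conj]
  rw [show x.1 * g.1 * x.1⁻¹ = g.1 by rw [mul_comm x.1, mul_assoc, mul_inv_cancel, mul_one]]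

theorem sum_cls (T : Fin 4 → ℂ) :
    ∑ p : A, T (cls p) = T 0 + 3 * T 1 + 4 * T 2 + 4 * T 3 := by
  have hc : ∀ c : Fin 4, ∑ g ∈ Finset.univ.filter (fun g : A => cls g = c), T (cls g) =
      ((![1, 3, 4, 4] c : ℕ) : ℂ) * T c := fun c =>
    (Finset.sum_congr rfl fun g hg => congrArg T (Finset.mem_filter.mp hg).2).trans
      ((Finset.sum_const _).trans ((nsmul_eq_mul _ _).trans
        (congrArg (fun n : ℕ => (n : ℂ) * T c) (class_card c))))
  refine ((Finset.sum_fiberwise_of_maps_to (g := cls) (t := Finset.univ)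
    (fun g _ => Finset.mem_univ _) fun g => T (cls g)).symm.trans
    (Finset.sum_congr rfl fun c _ => hc c)).trans ?_
  simp only [Fin.sum_univ_four, Matrix.cons_val]
  push_cast
  ring

theorem zmod_sum (F : Multiplicative (ZMod 2) → ℂ) :
    ∑ a, F a = F 1 + F (Multiplicative.ofAdd 1) := by
  rw [show (Finset.univ : Finset (Multiplicative (ZMod 2))) = {1, Multiplicative.ofAdd 1} by
    decide, Finset.sum_pair (by decide)]

theorem sum_ofTable (T : Fin 4 → ℂ) :
    ∑ m : M, ofTable T m = T 0 + 3 * T 1 + 4 * T 2 + 4 * T 3 := by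
  rw [Fintype.sum_prod_type, zmod_sum]
  simp only [ofTable, if_pos, if_neg ofAdd_ne, Finset.sum_const_zero, zero_add]
  exact sum_cls T

theorem card_M_cast : ((Nat.card M : ℕ) : ℂ) = 24 := by
  rw [Nat.card_eq_fintype_card, card_M]; norm_num

theorem classInner_ofTable (T U : Fin 4 → ℂ) :
    Cfsg.classInner (ofTable T) (ofTable U) =
      (24 : ℂ)⁻¹ * (T 0 * conj (U 0) + 3 * (T 1 * conj (U 1)) + 4 * (T 2 * conj (U 2)) +
        4 * (T 3 * conj (U 3))) := by
  rw [Cfsg.classInner, card_M_cast]
  refine congrArg _ ((Finset.sum_congr rfl fun m _ => ?_).trans (sum_ofTable fun c => T c * conj (U c)))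
  simp only [ofTable]
  split_ifs <;> simp

theorem classInner_ofTable_one (T : Fin 4 → ℂ) :
    Cfsg.classInner (ofTable T) (fun _ => 1) =
      (24 : ℂ)⁻¹ * (T 0 + 3 * T 1 + 4 * T 2 + 4 * T 3) := by
  rw [Cfsg.classInner, card_M_cast, ← sum_ofTable T]
  exact congrArg _ (Finset.sum_congr rfl fun m _ => by rw [map_one, mul_one])

theorem sign_mul_tbl : ∀ a b : Multiplicative (ZMod 2),
    (if a * b = 1 then (1 : ℤ) else -1) =
      (if a = 1 then 1 else -1) * (if b = 1 then 1 else -1) := by decide

/-- The linear character with kernel the alternating group. -/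
noncomputable def sgnHom : M →* ℂˣ where
  toFun m := if m.1 = 1 then 1 else -1
  map_one' := if_pos rfl
  map_mul' g h := by
    have := sign_mul_tbl g.1 h.1
    simp only [Prod.fst_mul]
    split_ifs at this ⊢ <;> simp_all

/-- A generalized character of A4 gives one of `C2 × A4` living on the nontrivial coset. -/
theorem gen_twist {α : A → ℂ} (h : Cfsg.IsGeneralizedCharacter A α) (T : Fin 4 → ℂ)
    (hT : ∀ p, 2 * α p = T (cls p)) : Cfsg.IsGeneralizedCharacter M (ofTable T) := by
  obtain ⟨a, b, ha, hb, rfl⟩ := h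
  have hs := H26.irr_isCharacter ⟨_, H26.isIrrCharacter_hom sgnHom⟩
  have ha' := H26.isCharacter_comp ha (MonoidHom.snd (Multiplicative (ZMod 2)) A)
  have hb' := H26.isCharacter_comp hb (MonoidHom.snd (Multiplicative (ZMod 2)) A)
  have e : ofTable T = (fun m : M => a m.2 + (sgnHom m : ℂ) * b m.2) -
      (fun m : M => b m.2 + (sgnHom m : ℂ) * a m.2) := by
    funext m
    have h2 := hT m.2
    simp only [Pi.sub_apply] at h2 ⊢
    simp only [ofTable, sgnHom, MonoidHom.coe_mk, OneHom.coe_mk]
    split_ifs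
    · simp only [Units.val_one, one_mul]; ring
    · simp only [Units.val_neg, Units.val_one, neg_mul, one_mul]
      rw [← h2]; ring
  rw [e]
  exact H57.gen_sub
    (H57.gen_of_char (H26.isCharacter_add ha' (H26.isCharacter_mul hs hb')))
    (H57.gen_of_char (H26.isCharacter_add hb' (H26.isCharacter_mul hs ha')))

/-- The table attached to a cube root of unity. -/
noncomputable def Tz (ζ : ℂ) : Fin 4 → ℂ := ![8, 0, 2 * ζ, 2 * ζ ^ 2]

theorem gen_Tz {ζ : ℂ} (hζ : ζ ^ 3 = 1) : Cfsg.IsGeneralizedCharacter M (ofTable (Tz ζ)) := by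
  classical
  have h0 : ζ ≠ 0 := fun h => by rw [h] at hζ; norm_num at hζ
  let f : A →* ℂˣ :=
    { toFun := fun k => Units.mk0 (ζ ^ idx k) (pow_ne_zero _ h0)
      map_one' := by ext; simp [idx_one]
      map_mul' := fun a b => by
        ext
        simp only [Units.val_mul, Units.val_mk0, idx_mul, ← pow_add]
        exact (pow_eq_pow_mod _ hζ).symm }
  have hlam : Cfsg.IsGeneralizedCharacter A (fun p => ((f p : ℂˣ) : ℂ)) :=
    H57.gen_of_char (H26.irr_isCharacter ⟨_, H26.isIrrCharacter_hom f⟩)
  have hfix : Cfsg.IsGeneralizedCharacter A (fun p => (fixCount p : ℂ)) := by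
    have h := H26.isCharacter_permChar (G := A) (Fin 4)
    have e : H26.permChar (G := A) (Fin 4) = fun p => (fixCount p : ℂ) := by
      funext p
      simp only [H26.permChar, Nat.card_eq_fintype_card]
      congr 1
      exact (Fintype.card_subtype _).trans rfl
    exact e ▸ H57.gen_of_char h
  have hone : Cfsg.IsGeneralizedCharacter A (fun _ => (1 : ℂ)) :=
    H57.gen_of_char (H26.irr_isCharacter (H26.oneIrr A))
  refine gen_twist (H57.gen_sub (H57.gen_add hlam hfix) hone) _ fun p => ?_
  show 2 * (((Units.mk0 (ζ ^ idx p) (pow_ne_zero _ h0) : ℂˣ) : ℂ) + (fixCount p : ℂ) - 1) = _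
  rw [Units.val_mk0, fixCount_table, idx_table]
  generalize cls p = c
  fin_cases c <;> simp [Tz] <;> norm_num

end Cfsg.Agent.H80.CentTwoAlt
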