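import Cfsg.Agent.H50.AbelianSylowTwo
import Cfsg.Agent.S0205

/-!
# Groups with an elementary abelian Sylow 2-subgroup of order eight
-/

set_option autoImplicit false

namespace Cfsg.Agent.H80.CentTwoAlt

open Subgroup

variable {G : Type*} [Group G] [Finite G]

/-- A subgroup of exponent two is commutative. -/
theorem comm_of_sq {H : Subgroup G} (h : ∀ x ∈ H, x * x = 1) : IsMulCommutative H := by
  refine ⟨⟨fun a b => Subtype.ext ?_⟩⟩
  have hi : ∀ x ∈ H, x⁻¹ = x := fun x hx => inv_eq_of_mul_eq_one_right (h x hx)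
  show (a : G) * b = b * a
  rw [← hi _ (mul_mem a.2 b.2), mul_inv_rev, hi _ a.2, hi _ b.2]

/-- A subgroup of exponent two and order eight is not cyclic. -/
theorem not_cyclic {H : Subgroup G} (h8 : Nat.card H = 8) (h : ∀ x ∈ H, x * x = 1) :
    ¬ IsCyclic H := by
  intro hc
  obtain ⟨x, hx⟩ := hc.exists_generator
  have h1 : orderOf x = 8 := (orderOf_eq_card_of_forall_mem_zpowers hx).trans h8
  have h2 : x ^ 2 = 1 := by
    rw [pow_two]; exact Subtype.ext (h _ x.2)
  have := Nat.le_of_dvd (by norm_num) (orderOf_dvd_iff_pow_eq_one.mpr h2)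
  omega

/-- An element of order two. -/
theorem mem_conj_sylow (S : Sylow 2 G) {v : G} (hv : v * v = 1) :
    ∃ g : G, g * v * g⁻¹ ∈ (S : Subgroup G) := by
  have := Fact.mk Nat.prime_two
  have hp : IsPGroup 2 (zpowers v) := by
    rintro ⟨x, k, rfl⟩
    refine ⟨1, Subtype.ext ?_⟩
    show (v ^ k) ^ (2 ^ 1) = 1
    rw [pow_one, ← zpow_natCast, ← zpow_mul, mul_comm, zpow_mul, zpow_natCast, pow_two, hv,
      one_zpow]
  obtain ⟨T, hT⟩ := hp.exists_le_sylow
  obtain ⟨g, hg⟩ := MulAction.exists_smul_eq G T S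
  refine ⟨g, ?_⟩
  show g * v * g⁻¹ ∈ S
  rw [← hg, ← SetLike.mem_coe, Sylow.coe_smul]
  exact ⟨v, hT (mem_zpowers v), rfl⟩

variable (hG : ∀ H : Subgroup G, H.index ≠ 2) (S : Sylow 2 G)
  (h8 : Nat.card (S : Subgroup G) = 8) (hS : ∀ x ∈ (S : Subgroup G), x * x = 1)

include hG h8 hS

/-- Any two nontrivial elements of the Sylow subgroup are conjugate in its normalizer. -/
theorem normalizer_conj {u v : G} (hu : u ∈ (S : Subgroup G)) (hv : v ∈ (S : Subgroup G))
    (hu1 : u ≠ 1) (hv1 : v ≠ 1) :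
    ∃ n ∈ normalizer ((S : Subgroup G) : Set G), n * u * n⁻¹ = v := by
  classical
  have := Fact.mk Nat.prime_two
  by_contra hcon
  let N := normalizer ((S : Subgroup G) : Set G)
  let _ : MulAction N G := MulAction.compHom G ((MulAut.conj : G →* MulAut G).comp N.subtype)
  have hsmul : ∀ (n : N) (x : G), n • x = (n : G) * x * (n : G)⁻¹ := fun _ _ => rfl
  have hab := comm_of_sq hS
  let _ : Fintype G := Fintype.ofFinite G
  have horb : ∀ x ∈ (S : Subgroup G), x ≠ 1 →
      Odd (MulAction.orbit N x).ncard ∧ 2 < (MulAction.orbit N x).ncard ∧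
      MulAction.orbit N x ⊆ ((S : Subgroup G) : Set G) \ {1} := by
    intro x hx hx1
    have hodd : Odd (MulAction.orbit N x).ncard := by
      rw [← MulAction.index_stabilizer]
      have hle : (S : Subgroup G).subgroupOf N ≤ MulAction.stabilizer N x := fun w hw => by
        show (w : G) * x * (w : G)⁻¹ = x
        have hcomm : (w : G) * x = x * w :=
          congrArg Subtype.val (hab.is_comm.comm (⟨(w : G), hw⟩ : (S : Subgroup G)) ⟨x, hx⟩)
        rw [hcomm, mul_inv_cancel_right]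
      refine Odd.of_dvd_nat ?_ ((index_dvd_of_le hle).trans
        (relIndex_dvd_index_of_le (le_normalizer (H := (S : Subgroup G)))))
      exact Nat.not_even_iff_odd.mp fun h => S.not_dvd_index (even_iff_two_dvd.mp h)
    refine ⟨hodd, ?_, ?_⟩
    · by_contra h
      have h1 : (MulAction.orbit N x).ncard = 1 := by
        obtain ⟨m, hm⟩ := hodd; omega
      obtain ⟨y, hy⟩ := Set.ncard_eq_one.mp h1
      have hxy : x ∈ MulAction.orbit N x := MulAction.mem_orbit_self x
      rw [hy, Set.mem_singleton_iff] at hxy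
      refine hx1 (H50.abelian_sylow_fixed_trivial hG S hab hx fun n hn => ?_)
      have h2 : (⟨n, hn⟩ : N) • x ∈ MulAction.orbit N x := MulAction.mem_orbit x _
      rw [hy, ← hxy, Set.mem_singleton_iff, hsmul] at h2
      exact mul_inv_eq_iff_eq_mul.mp h2
    · rintro _ ⟨n, rfl⟩
      refine ⟨(mem_normalizer_iff.mp n.2 x).mp hx, ?_⟩
      simp only [hsmul, Set.mem_singleton_iff, conj_eq_one_iff]
      exact hx1
  obtain ⟨hou, hu2, hus⟩ := horb u hu hu1
  obtain ⟨hov, hv2, hvs⟩ := horb v hv hv1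
  have hdisj : Disjoint (MulAction.orbit N u) (MulAction.orbit N v) := by
    rw [Set.disjoint_iff_inter_eq_empty, Set.eq_empty_iff_forall_notMem]
    rintro z ⟨⟨n, rfl⟩, ⟨m, hm⟩⟩
    simp only [hsmul] at hm
    refine hcon ⟨(m : G)⁻¹ * n, mul_mem (inv_mem m.2) n.2, ?_⟩
    rw [show (m : G)⁻¹ * n * u * ((m : G)⁻¹ * n)⁻¹ = (m : G)⁻¹ * ((n : G) * u * (n : G)⁻¹) * m by
      group, ← hm]
    group
  have h7 : (((S : Subgroup G) : Set G) \ {1}).ncard = 7 := by
    rw [Set.ncard_sdiff_singleton_of_mem (one_mem (S : Subgroup G)), ← Nat.card_coe_set_eq]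
    simp only [SetLike.coe_sort_coe]
    omega
  have hle : (MulAction.orbit N u).ncard + (MulAction.orbit N v).ncard ≤ 7 := by
    rw [← h7, ← Set.ncard_union_eq hdisj]
    exact Set.ncard_le_ncard (Set.union_subset hus hvs)
  rcases Nat.lt_or_ge ((MulAction.orbit N u).ncard + (MulAction.orbit N v).ncard) 7 with h | h
  · obtain ⟨w, hw, hwn⟩ := Set.exists_mem_notMem_of_ncard_lt_ncard
      (s := MulAction.orbit N u ∪ MulAction.orbit N v) (t := ((S : Subgroup G) : Set G) \ {1})
      (by rw [Set.ncard_union_eq hdisj, h7]; exact h)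
    obtain ⟨-, hw2, hws⟩ := horb w hw.1 (by simpa using hw.2)
    have hd' : Disjoint (MulAction.orbit N u ∪ MulAction.orbit N v) (MulAction.orbit N w) := by
      rw [Set.disjoint_left]
      rintro x (hx | hx) hx'
      · refine hwn (Or.inl ?_)
        rw [← MulAction.orbit_eq_iff.mpr hx, MulAction.orbit_eq_iff.mpr hx']
        exact MulAction.mem_orbit_self w
      · refine hwn (Or.inr ?_)
        rw [← MulAction.orbit_eq_iff.mpr hx, MulAction.orbit_eq_iff.mpr hx']
        exact MulAction.mem_orbit_self w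
    have h3 := Set.ncard_le_ncard (Set.union_subset (Set.union_subset hus hvs) hws)
    rw [Set.ncard_union_eq hd', Set.ncard_union_eq hdisj, h7] at h3
    omega
  · obtain ⟨a, ha'⟩ := hou
    obtain ⟨b, hb'⟩ := hov
    omega

/-- All involutions are conjugate. -/
theorem involutions_conj {a b : G} (ha : a * a = 1) (ha1 : a ≠ 1) (hb : b * b = 1) (hb1 : b ≠ 1) :
    ∃ g : G, g * a * g⁻¹ = b := by
  obtain ⟨g, hg⟩ := mem_conj_sylow S ha
  obtain ⟨k, hk⟩ := mem_conj_sylow S hb
  obtain ⟨n, -, hn⟩ := normalizer_conj hG S h8 hS hg hk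
    (fun h => ha1 (conj_eq_one_iff.mp h)) (fun h => hb1 (conj_eq_one_iff.mp h))
  refine ⟨k⁻¹ * n * g, ?_⟩
  rw [show k⁻¹ * n * g * a * (k⁻¹ * n * g)⁻¹ = k⁻¹ * (n * (g * a * g⁻¹) * n⁻¹) * k by group, hn]
  group

/-- Seven divides the order. -/
theorem seven_dvd : 7 ∣ Nat.card G := by
  classical
  let N := normalizer ((S : Subgroup G) : Set G)
  let _ : MulAction N G := MulAction.compHom G ((MulAut.conj : G →* MulAut G).comp N.subtype)
  obtain ⟨u, hu, hu1⟩ : ∃ u ∈ (S : Subgroup G), u ≠ 1 := by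
    by_contra h
    push_neg at h
    rw [(Subgroup.eq_bot_iff_forall _).mpr h, card_bot] at h8
    omega
  have horb : MulAction.orbit N u = ((S : Subgroup G) : Set G) \ {1} := by
    ext z
    constructor
    · rintro ⟨n, rfl⟩
      exact ⟨(mem_normalizer_iff.mp n.2 u).mp hu, fun h => hu1 (conj_eq_one_iff.mp h)⟩
    · rintro ⟨hz, hz1⟩
      obtain ⟨n, hn, hnz⟩ := normalizer_conj hG S h8 hS hu hz hu1 hz1
      exact ⟨⟨n, hn⟩, hnz⟩
  have h7 : (MulAction.orbit N u).ncard = 7 := by
    rw [horb, Set.ncard_sdiff_singleton_of_mem (one_mem (S : Subgroup G)), ← Nat.card_coe_set_eq]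
    simp only [SetLike.coe_sort_coe]
    omega
  rw [← h7, ← MulAction.index_stabilizer]
  exact (index_dvd_card _).trans (card_subgroup_dvd_card N)

end Cfsg.Agent.H80.CentTwoAlt
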